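import Mathlib.AlgebraicGeometry.Morphisms.Separated
import Mathlib.AlgebraicGeometry.Morphisms.Immersion
import Mathlib.AlgebraicGeometry.PullbackCarrier

/-!
# Disjoint unions of affine schemes are separated
-/

set_option autoImplicit false
set_option backward.isDefEq.respectTransparency false
set_option backward.isDefEq.respectTransparency.types false

universe u

open CategoryTheory CategoryTheory.Limits AlgebraicGeometry TopologicalSpace

namespace Groth.Agent.FpqcSpace13

theorem isSeparated_sigma {ι : Type u} (V : ι → Scheme.{u}) [∀ i, IsAffine (V i)] :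
    (∐ V).IsSeparated := by
  let f := terminal.from (∐ V)
  suffices hc : IsClosed (Set.range (pullback.diagonal f)) by
    exact ⟨⟨IsClosedImmersion.of_isPreimmersion _ hc⟩⟩
  refine isClosed_of_closure_subset fun z hz => ?_
  obtain ⟨a, x, hx⟩ := (sigmaOpenCover V).exists_eq (pullback.fst f f z)
  obtain ⟨b, y, hy⟩ := (sigmaOpenCover V).exists_eq (pullback.snd f f z)
  simp only [sigmaOpenCover_f] at hx hy
  have hN : IsOpen ((pullback.fst f f) ⁻¹' Set.range (Sigma.ι V a) ∩
      (pullback.snd f f) ⁻¹' Set.range (Sigma.ι V b)) :=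
    ((Sigma.ι V a).isOpenEmbedding.isOpen_range.preimage (pullback.fst f f).continuous).inter
      ((Sigma.ι V b).isOpenEmbedding.isOpen_range.preimage (pullback.snd f f).continuous)
  obtain ⟨w, ⟨⟨x', hx'⟩, ⟨y', hy'⟩⟩, c, hc⟩ := mem_closure_iff.1 hz _ hN ⟨⟨x, hx⟩, ⟨y, hy⟩⟩
  have h1 : pullback.fst f f w = c := by
    rw [← hc, ← Scheme.Hom.comp_apply, pullback.diagonal_fst]; rfl
  have h2 : pullback.snd f f w = c := by
    rw [← hc, ← Scheme.Hom.comp_apply, pullback.diagonal_snd]; rfl
  obtain rfl : a = b := by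
    by_contra hab
    exact Set.disjoint_left.1 (Opens.coe_disjoint.2 (disjoint_opensRange_sigmaι V a b hab))
      (show c ∈ ((Sigma.ι V a).opensRange : Set _) from ⟨x', hx'.trans h1⟩) ⟨y', hy'.trans h2⟩
  let g := terminal.from (V a)
  let m : pullback g g ⟶ pullback f f :=
    pullback.map g g f f (Sigma.ι V a) (Sigma.ι V a) (𝟙 _) (terminal.hom_ext _ _) (terminal.hom_ext _ _)
  have hm : Set.range m = (pullback.fst f f) ⁻¹' Set.range (Sigma.ι V a) ∩
      (pullback.snd f f) ⁻¹' Set.range (Sigma.ι V a) :=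
    Scheme.Pullback.range_map _ _ _ _ _ _ _ _ _
  obtain ⟨v, rfl⟩ := hm.ge ⟨⟨x, hx⟩, ⟨y, hy⟩⟩
  have hd : v ∈ closure (Set.range (pullback.diagonal g)) := by
    refine mem_closure_iff.2 fun O hO hvO => ?_
    have hm' : IsOpenImmersion m := inferInstance
    obtain ⟨w', ⟨o, ho, rfl⟩, c', hc'⟩ := mem_closure_iff.1 hz _ (m.isOpenEmbedding.isOpenMap O hO) ⟨v, hvO, rfl⟩
    obtain ⟨⟨x₀, hx₀⟩, -⟩ := hm.le ⟨o, rfl⟩
    refine ⟨o, ho, x₀, m.isOpenEmbedding.injective ?_⟩
    have h3 : pullback.fst f f (m o) = c' := by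
      rw [← hc', ← Scheme.Hom.comp_apply, pullback.diagonal_fst]; rfl
    have e : pullback.diagonal g ≫ m = Sigma.ι V a ≫ pullback.diagonal f := by
      apply pullback.hom_ext <;> simp [m]
    rw [← Scheme.Hom.comp_apply, e, Scheme.Hom.comp_apply, hx₀, h3, hc']
  have hcl : IsClosed (Set.range (pullback.diagonal g)) :=
    (pullback.diagonal g).isClosedEmbedding.isClosed_range
  obtain ⟨v', rfl⟩ := hcl.closure_eq.le hd
  refine ⟨Sigma.ι V a v', ?_⟩
  rw [← Scheme.Hom.comp_apply, ← Scheme.Hom.comp_apply]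
  have e : Sigma.ι V a ≫ pullback.diagonal f = pullback.diagonal g ≫ m := by
    apply pullback.hom_ext <;> simp [m]
  rw [e]

end Groth.Agent.FpqcSpace13
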