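import Groth.Agent.AlgSpLib.Sheaf
import Groth.Agent.DescLib.Sieve
import Mathlib.AlgebraicGeometry.Sites.Fpqc
import Mathlib.CategoryTheory.Sites.Over
import Mathlib.CategoryTheory.Sites.SubcanonicalOver

/-!
# The fpqc topology over a base, and separatedness of algebraic spaces for it
-/

set_option autoImplicit false
set_option backward.isDefEq.respectTransparency false
set_option backward.isDefEq.respectTransparency.types false

universe u

open CategoryTheory CategoryTheory.Limits AlgebraicGeometry Opposite AlgSp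

namespace Groth.Agent.FpqcSpace13

variable {S : Scheme.{u}}

/-- The fpqc topology on schemes over `S`. -/
abbrev fpqcJ (S : Scheme.{u}) : GrothendieckTopology (Over S) := Scheme.fpqcTopology.over S

theorem exists_glue_over {T Z : Over S} (R : Sieve T) (hR : R ∈ fpqcJ S T)
    (φ : ∀ ⦃A : Over S⦄ (t : A ⟶ T), R t → (A ⟶ Z))
    (hφ : ∀ ⦃A A' : Over S⦄ (g : A' ⟶ A) (t : A ⟶ T) (ht : R t) (ht' : R (g ≫ t)),
      φ (g ≫ t) ht' = g ≫ φ t ht) :
    ∃ a : T ⟶ Z, ∀ ⦃A : Over S⦄ (t : A ⟶ T) (ht : R t), t ≫ a = φ t ht := by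
  have hs := (GrothendieckTopology.Subcanonical.isSheaf_of_isRepresentable (J := fpqcJ S)
    (yoneda.obj Z)) R hR
  let x : Presieve.FamilyOfElements (yoneda.obj Z) R.arrows := fun A t ht => φ t ht
  have hx : x.Compatible := by
    intro Y₁ Y₂ W g₁ g₂ f₁ f₂ h₁ h₂ e
    show g₁ ≫ φ f₁ h₁ = g₂ ≫ φ f₂ h₂
    rw [← hφ g₁ f₁ h₁ (R.downward_closed h₁ g₁), ← hφ g₂ f₂ h₂ (R.downward_closed h₂ g₂)]
    congr 1
  exact ⟨hs.amalgamate x hx, fun A t ht => hs.valid_glue hx t ht⟩

theorem hom_ext_over {T Z : Over S} (R : Sieve T) (hR : R ∈ fpqcJ S T) (a b : T ⟶ Z)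
    (h : ∀ ⦃A : Over S⦄ (t : A ⟶ T), R t → t ≫ a = t ≫ b) : a = b :=
  ((GrothendieckTopology.Subcanonical.isSheaf_of_isRepresentable (J := fpqcJ S) (yoneda.obj Z))
    R hR).isSeparatedFor.ext h

/-- Maps to an algebraic space agree when they agree on an fpqc covering sieve. -/
theorem hom_ext_fpqc {X : Sp S} (hX : IsAlgSpace X) {T : Over S} (R : Sieve T) (hR : R ∈ fpqcJ S T)
    (a b : (yon S).obj T ⟶ X)
    (h : ∀ ⦃A : Over S⦄ (t : A ⟶ T), R t → (yon S).map t ≫ a = (yon S).map t ≫ b) : a = b := by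
  have ha : Representable a := (Functor.relativelyRepresentable.diag_iff.1 hX.diag) a
  obtain ⟨σ, hσ⟩ := exists_glue_over (Z := ha.pullback b) R hR (fun A t ht => ha.lift' t t (h t ht))
    (fun A A' g t ht ht' => ha.hom_ext'
      (by rw [Category.assoc, ha.lift'_fst, ha.lift'_fst])
      (by rw [Category.assoc, ha.lift'_snd, ha.lift'_snd]))
  have h1 : σ ≫ ha.fst' b = 𝟙 T := hom_ext_over R hR _ _ fun A t ht => by
    rw [← Category.assoc, hσ t ht, ha.lift'_fst, Category.comp_id]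
  have h2 : σ ≫ ha.snd b = 𝟙 T := hom_ext_over R hR _ _ fun A t ht => by
    rw [← Category.assoc, hσ t ht, ha.lift'_snd, Category.comp_id]
  have h3 := congrArg (fun z => (yon S).map σ ≫ z) (ha.isPullback' b).w
  simp only [← Functor.map_comp_assoc, h1, h2, CategoryTheory.Functor.map_id] at h3
  exact (Category.id_comp a).symm.trans (h3.trans (Category.id_comp b))

/-- The members of a family of schemes over `T`, as schemes over `S`. -/
abbrev mem {T : Over S} {ι : Type u} {Y : ι → Scheme.{u}} (f : ∀ i, Y i ⟶ T.left) (i : ι) : Over S :=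
  Over.mk (f i ≫ T.hom)

/-- The members of a family map to its target. -/
abbrev memHom {T : Over S} {ι : Type u} {Y : ι → Scheme.{u}} (f : ∀ i, Y i ⟶ T.left) (i : ι) :
    mem f i ⟶ T := Over.homMk (f i) rfl

/-- The sieve of a family. -/
abbrev famSieve {T : Over S} {ι : Type u} {Y : ι → Scheme.{u}} (f : ∀ i, Y i ⟶ T.left) : Sieve T :=
  Sieve.ofArrows (mem f) (memHom f)

theorem famSieve_iff {T : Over S} {ι : Type u} {Y : ι → Scheme.{u}} (f : ∀ i, Y i ⟶ T.left) {A : Over S}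
    (t : A ⟶ T) : famSieve f t ↔ ∃ (i : ι) (y : A ⟶ mem f i), y ≫ memHom f i = t := by
  constructor
  · rintro ⟨Z, a, b, ⟨i⟩, e⟩
    exact ⟨i, a, e⟩
  · rintro ⟨i, y, e⟩
    exact ⟨_, y, _, ⟨i⟩, e⟩

theorem famSieve_mem {T : Over S} {ι : Type u} {Y : ι → Scheme.{u}} (f : ∀ i, Y i ⟶ T.left)
    (hf : Presieve.ofArrows Y f ∈ Scheme.fpqcPrecoverage T.left) : famSieve f ∈ fpqcJ S T := by
  rw [GrothendieckTopology.mem_over_iff]
  refine GrothendieckTopology.superset_covering _ ?_ (Precoverage.generate_mem_toGrothendieck hf)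
  rw [Sieve.generate_le_iff]
  rintro _ _ ⟨i⟩
  rw [Sieve.overEquiv_iff]
  exact ⟨mem f i, 𝟙 _, memHom f i, ⟨i⟩, Category.id_comp _⟩

theorem exists_family {T : Over S} (R : Sieve T) (hR : R ∈ fpqcJ S T) :
    ∃ (ι : Type u) (Y : ι → Scheme.{u}) (f : ∀ i, Y i ⟶ T.left),
      Presieve.ofArrows Y f ∈ Scheme.fpqcPrecoverage T.left ∧ ∀ i, R (memHom f i) := by
  rw [GrothendieckTopology.mem_over_iff] at hR
  obtain ⟨P, hP, hle⟩ := Precoverage.mem_toGrothendieck_iff_of_isStableUnderComposition.1 hR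
  obtain ⟨E, rfl⟩ := Precoverage.mem_iff_exists_zeroHypercover.1 hP
  haveI : Precoverage.Small.{u} Scheme.fpqcPrecoverage.{u} :=
    inferInstanceAs (Precoverage.Small.{u} (Scheme.propQCPrecoverage @Flat))
  haveI := Precoverage.Small.zeroHypercoverSmall.{u} E
  let E' := Precoverage.ZeroHypercover.restrictIndexOfSmall.{u} E
  exact ⟨E'.I₀, E'.X, E'.f, E'.mem₀,
    fun i => (Sieve.overEquiv_iff _ _).1 (hle _ _ ⟨Precoverage.ZeroHypercover.Small.restrictFun.{u} E i⟩)⟩

end Groth.Agent.FpqcSpace13
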