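import Groth.Agent.FpqcSpace13.Basic
import Groth.Agent.AlgSpLib.EtLocalInst
import Groth.Agent.MorLib.IndQA
import Groth.Prelude.Def_DescFam

/-!
# The descent datum of an atlas along a compatible family of points
-/

set_option autoImplicit false
set_option backward.isDefEq.respectTransparency false
set_option backward.isDefEq.respectTransparency.types false

universe u

open CategoryTheory CategoryTheory.Limits AlgebraicGeometry Opposite AlgSp Desc Groth.Agent.AlgSpLib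

namespace Groth.Agent.FpqcSpace13

variable {S : Scheme.{u}} {X : Sp S} {U T : Over S} {p : (yon S).obj U ⟶ X} {ι : Type u}
  {Y : ι → Scheme.{u}} {f : ∀ i, Y i ⟶ T.left}

/-- Compatibility of a family of points on the members. -/
def FamCompat (x : ∀ i, (yon S).obj (mem f i) ⟶ X) : Prop :=
  ∀ ⦃A : Over S⦄ (i j : ι) (y₀ : A ⟶ mem f i) (y₁ : A ⟶ mem f j),
    y₀ ≫ memHom f i = y₁ ≫ memHom f j → (yon S).map y₀ ≫ x i = (yon S).map y₁ ≫ x j

variable (hp : Representable p) (x : ∀ i, (yon S).obj (mem f i) ⟶ X)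

theorem hom_ext_left (i : ι) {A : Scheme.{u}} {v v' : A ⟶ (hp.pullback (x i)).left}
    (h1 : v ≫ (hp.fst' (x i)).left = v' ≫ (hp.fst' (x i)).left)
    (h2 : v ≫ (hp.snd (x i)).left = v' ≫ (hp.snd (x i)).left) : v = v' := by
  let Ao : Over S := Over.mk (v ≫ (hp.pullback (x i)).hom)
  let vo : Ao ⟶ hp.pullback (x i) := Over.homMk v rfl
  let vo' : Ao ⟶ hp.pullback (x i) := Over.homMk v' (by
    show v' ≫ (hp.pullback (x i)).hom = v ≫ (hp.pullback (x i)).hom
    rw [← Over.w (hp.snd (x i)), reassoc_of% h2])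
  have e : vo = vo' := hp.hom_ext' (Over.OverMorphism.ext h1) (Over.OverMorphism.ext h2)
  exact congrArg (fun e : Ao ⟶ hp.pullback (x i) => e.left) e

theorem exists_point (hc : FamCompat x) {A : Scheme.{u}} {i j : ι} (x₀ : A ⟶ Y i) (x₁ : A ⟶ Y j)
    (h : x₀ ≫ f i = x₁ ≫ f j) (v : A ⟶ (hp.pullback (x i)).left) (hv : v ≫ (hp.snd (x i)).left = x₀) :
    ∃ w : A ⟶ (hp.pullback (x j)).left, w ≫ (hp.snd (x j)).left = x₁ ∧
      w ≫ (hp.fst' (x j)).left = v ≫ (hp.fst' (x i)).left := by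
  let Ao : Over S := Over.mk (x₀ ≫ f i ≫ T.hom)
  let vo : Ao ⟶ hp.pullback (x i) := Over.homMk v (by
    show v ≫ (hp.pullback (x i)).hom = x₀ ≫ f i ≫ T.hom
    rw [← Over.w (hp.snd (x i)), reassoc_of% hv]; rfl)
  let y₁ : Ao ⟶ mem f j := Over.homMk x₁ (by
    show x₁ ≫ f j ≫ T.hom = x₀ ≫ f i ≫ T.hom
    rw [reassoc_of% h])
  have hcond : (yon S).map (vo ≫ hp.fst' (x i)) ≫ p = (yon S).map y₁ ≫ x j := by
    rw [Functor.map_comp, Category.assoc, (hp.isPullback' (x i)).w, ← Category.assoc, ← Functor.map_comp]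
    refine hc i j _ _ (Over.OverMorphism.ext ?_)
    show (v ≫ (hp.snd (x i)).left) ≫ f i = x₁ ≫ f j
    rw [hv, h]
  exact ⟨(hp.lift' _ _ hcond).left,
    congrArg (fun e : Ao ⟶ mem f j => e.left) (hp.lift'_snd _ _ hcond),
    congrArg (fun e : Ao ⟶ U => e.left) (hp.lift'_fst _ _ hcond)⟩

/-- The member of the descent datum over `Y i`. -/
noncomputable abbrev obj (i : ι) : Over (Y i) := Over.mk (hp.snd (x i)).left

theorem lifts_ext (i : ι) {A : Scheme.{u}} {y : A ⟶ Y i} {v v' : Lifts (obj hp x i) y}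
    (h : v.1 ≫ (hp.fst' (x i)).left = v'.1 ≫ (hp.fst' (x i)).left) : v = v' :=
  Subtype.ext (hom_ext_left hp x i h (v.2.trans v'.2.symm))

/-- The gluing map on points. -/
noncomputable def gluePt (hc : FamCompat x) {A : Scheme.{u}} {i j : ι} (x₀ : A ⟶ Y i) (x₁ : A ⟶ Y j)
    (h : x₀ ≫ f i = x₁ ≫ f j) (v : Lifts (obj hp x i) x₀) : Lifts (obj hp x j) x₁ :=
  ⟨(exists_point hp x hc x₀ x₁ h v.1 v.2).choose, (exists_point hp x hc x₀ x₁ h v.1 v.2).choose_spec.1⟩

theorem gluePt_fst (hc : FamCompat x) {A : Scheme.{u}} {i j : ι} (x₀ : A ⟶ Y i) (x₁ : A ⟶ Y j)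
    (h : x₀ ≫ f i = x₁ ≫ f j) (v : Lifts (obj hp x i) x₀) :
    (gluePt hp x hc x₀ x₁ h v).1 ≫ (hp.fst' (x j)).left = v.1 ≫ (hp.fst' (x i)).left :=
  (exists_point hp x hc x₀ x₁ h v.1 v.2).choose_spec.2

/-- The pullbacks of an atlas along the members form a descent datum. -/
noncomputable def datum (hc : FamCompat x) : SchDDFam f where
  obj i := obj hp x i
  φ A i j x₀ x₁ h :=
    { toFun := gluePt hp x hc x₀ x₁ h
      invFun := gluePt hp x hc x₁ x₀ h.symm
      left_inv := fun v => lifts_ext hp x i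
        ((gluePt_fst hp x hc x₁ x₀ h.symm _).trans (gluePt_fst hp x hc x₀ x₁ h v))
      right_inv := fun v => lifts_ext hp x j
        ((gluePt_fst hp x hc x₀ x₁ h _).trans (gluePt_fst hp x hc x₁ x₀ h.symm v)) }
  φ_natural A A' g i j x₀ x₁ h y₀ y₁ hy₀ hy₁ h' v v' hv' := by
    refine hom_ext_left hp x j ?_ ?_
    · show (gluePt hp x hc y₀ y₁ h' v').1 ≫ (hp.fst' (x j)).left =
        (g ≫ (gluePt hp x hc x₀ x₁ h v).1) ≫ (hp.fst' (x j)).left
      rw [Category.assoc, gluePt_fst, gluePt_fst, ← Category.assoc]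
      exact congrArg (fun z : A' ⟶ (obj hp x i).left => z ≫ (hp.fst' (x i)).left) hv'
    · refine (gluePt hp x hc y₀ y₁ h' v').2.trans ?_
      show y₁ = (g ≫ (gluePt hp x hc x₀ x₁ h v).1) ≫ (obj hp x j).hom
      rw [Category.assoc, (gluePt hp x hc x₀ x₁ h v).2, hy₁]
  φ_self A i y v := lifts_ext hp x i (gluePt_fst hp x hc y y rfl v)
  φ_comp A i j k x₀ x₁ x₂ h₀₁ h₁₂ v := lifts_ext hp x k
    (((gluePt_fst hp x hc x₁ x₂ h₁₂ _).trans (gluePt_fst hp x hc x₀ x₁ h₀₁ v)).trans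
      (gluePt_fst hp x hc x₀ x₂ (h₀₁.trans h₁₂) v).symm)

theorem datum_obj (hc : FamCompat x) (i : ι) : (datum hp x hc).obj i = obj hp x i := rfl

theorem datum_indQA (hc : FamCompat x) [U.left.IsSeparated] (hpe : RepWith @Etale p) (i : ι) :
    MoreMor.IsIndQuasiAffineHom ((datum hpe.rep x hc).obj i).hom := by
  rw [datum_obj]
  show MoreMor.IsIndQuasiAffineHom (hpe.rep.snd (x i)).left
  haveI : Etale (hpe.rep.snd (x i)).left := hpe.property _ _ _ (hpe.rep.isPullback' (x i))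
  let m : (hpe.rep.pullback (x i)).left ⟶ pullback U.hom (mem f i).hom :=
    pullback.lift (hpe.rep.fst' (x i)).left (hpe.rep.snd (x i)).left
      ((Over.w (hpe.rep.fst' (x i))).trans (Over.w (hpe.rep.snd (x i))).symm)
  haveI : Mono m := ⟨fun v v' e => hom_ext_left hpe.rep x i
    (by simpa [m] using congrArg (fun z => z ≫ pullback.fst _ _) e)
    (by simpa [m] using congrArg (fun z => z ≫ pullback.snd _ _) e)⟩
  haveI : IsSeparated (hpe.rep.snd (x i)).left := by
    rw [show (hpe.rep.snd (x i)).left = m ≫ pullback.snd U.hom (mem f i).hom from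
      (pullback.lift_snd _ _ _).symm]
    infer_instance
  exact MorLib.IQA.indQA_of_locallyQuasiFinite _

end Groth.Agent.FpqcSpace13
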