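import Groth.Agent.AlgSpLib.FpqcDescent
import Mathlib.AlgebraicGeometry.Morphisms.LocalFlatDescent
import Mathlib.AlgebraicGeometry.Sites.Fpqc

/-!
# Properties which descend along fpqc covering families
-/

set_option autoImplicit false
set_option backward.isDefEq.respectTransparency false
set_option backward.isDefEq.respectTransparency.types false

universe u

open CategoryTheory CategoryTheory.Limits AlgebraicGeometry

namespace Groth.Agent.FpqcSpace13

theorem property_of_fpqc_family {P : MorphismProperty Scheme.{u}} [IsZariskiLocalAtTarget P]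
    [P.DescendsAlong (@Surjective ⊓ @Flat ⊓ @QuasiCompact)] [P.IsStableUnderBaseChange]
    {A B : Scheme.{u}} {ι : Type u} {Y : ι → Scheme.{u}} (f : ∀ i, Y i ⟶ B)
    (hf : Presieve.ofArrows Y f ∈ Scheme.fpqcPrecoverage B) (e : A ⟶ B)
    (h : ∀ i, P (pullback.snd e (f i))) : P e := by
  obtain ⟨-, hflat⟩ := (Scheme.ofArrows_mem_precoverage_iff _).1 hf.2
  let E : PreZeroHypercover.{u} B := ⟨ι, Y, f⟩
  haveI : QuasiCompactCover E :=
    Scheme.presieve₀_mem_qcPrecoverage_iff.1 (show E.presieve₀ ∈ Scheme.qcPrecoverage B from hf.1)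
  refine AlgSpLib.property_of_affine_flat_covers e fun Z => ?_
  obtain ⟨n, φ, W, hW, heq⟩ := QuasiCompactCover.exists_isAffineOpen_of_isCompact E (U := Z.1)
    (IsAffineOpen.isCompact Z.2)
  have hle : ∀ j, W j ≤ (f (φ j)) ⁻¹ᵁ Z.1 := fun j w hw => heq.subset (Set.mem_iUnion.2 ⟨j, w, hw, rfl⟩)
  refine ⟨n, fun j => (W j).toScheme, fun j => (f (φ j)).resLE Z.1 (W j) (hle j), fun j => hW j,
    fun j => ?_, fun z => ?_, fun j => ?_⟩
  · haveI : Flat (f (φ j)) := hflat (φ j)
    haveI : Flat ((f (φ j)).resLE Z.1 (W j) (hle j) ≫ Z.1.ι) := by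
      rw [Scheme.Hom.resLE_comp_ι]; infer_instance
    exact MorphismProperty.of_postcomp @Flat (W' := @IsOpenImmersion) _ Z.1.ι inferInstance ‹_›
  · obtain ⟨j, w, hw, hwz⟩ := Set.mem_iUnion.1 (heq.superset z.2)
    refine ⟨j, ⟨w, hw⟩, Z.1.ι.isOpenEmbedding.injective ?_⟩
    simp only [← Scheme.Hom.comp_apply, Scheme.Hom.resLE_comp_ι]
    exact hwz
  · rw [Scheme.Hom.resLE_comp_ι]
    have s := (IsPullback.of_hasPullback (pullback.snd e (f (φ j))) (W j).ι).paste_horiz
      (IsPullback.of_hasPullback e (f (φ j)))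
    rw [← s.isoPullback_inv_snd, P.cancel_left_of_respectsIso]
    exact P.of_isPullback (IsPullback.of_hasPullback _ _) (h (φ j))

end Groth.Agent.FpqcSpace13
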