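import Groth.Agent.FpqcSpace13.Datum
import Groth.Agent.FpqcSpace13.Descend
import Groth.Agent.FpqcSpace13.SigmaSep
import Groth.Agent.DescLib.IndQAEff
import Groth.Agent.AlgSpDec.LqfSplitZ
import Groth.Agent.S10213

/-!
# Algebraic spaces are sheaves for the fpqc topology
-/

set_option autoImplicit false
set_option backward.isDefEq.respectTransparency false
set_option backward.isDefEq.respectTransparency.types false

universe u

open CategoryTheory CategoryTheory.Limits AlgebraicGeometry Opposite AlgSp Desc Groth.Agent.AlgSpLib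

namespace Groth.Agent.FpqcSpace13

variable {S : Scheme.{u}} {X : Sp S} {U T : Over S} {p : (yon S).obj U ⟶ X} {ι : Type u}
  {Y : ι → Scheme.{u}} {f : ∀ i, Y i ⟶ T.left}

/-- An effective descent of the atlas gives an etale surjection on which the family glues. -/
theorem exists_chart_glue [U.left.IsSeparated] (hpe : RepWith @Etale p) (hps : RepWith @Surjective p)
    (hf : Presieve.ofArrows Y f ∈ Scheme.fpqcPrecoverage T.left)
    {x : ∀ i, (yon S).obj (mem f i) ⟶ X} (hc : FamCompat x) :
    ∃ (W : Over S) (π : W ⟶ T) (xW : (yon S).obj W ⟶ X), Etale π.left ∧ Surjective π.left ∧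
      ∀ ⦃A : Over S⦄ (t : A ⟶ W) (i : ι) (y : A ⟶ mem f i), y ≫ memHom f i = t ≫ π →
        (yon S).map t ≫ xW = (yon S).map y ≫ x i := by
  obtain ⟨W, ⟨a⟩⟩ := DescLib.IndQA.isEffective_of_indQA f hf (datum hpe.rep x hc)
    (datum_indQA x hc hpe)
  let b : ∀ i, pullback (f i) W.hom ⟶ (hpe.rep.pullback (x i)).left := fun i => (a.hom.hom i).left
  let b' : ∀ i, (hpe.rep.pullback (x i)).left ⟶ pullback (f i) W.hom := fun i => (a.inv.hom i).left
  have hbfst : ∀ i, b i ≫ (hpe.rep.snd (x i)).left = pullback.fst (f i) W.hom := fun i => Over.w (a.hom.hom i)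
  have hbiso : ∀ i, IsIso (b i) := fun i => ⟨b' i,
    congrArg (fun e : (toDDFam f).obj W ⟶ (toDDFam f).obj W => (e.hom i).left) a.hom_inv_id,
    congrArg (fun e : datum hpe.rep x hc ⟶ datum hpe.rep x hc => (e.hom i).left) a.inv_hom_id⟩
  have hWet : Etale W.hom := by
    refine property_of_fpqc_family (P := @Etale) f hf W.hom fun i => ?_
    haveI := hbiso i
    haveI : Etale (hpe.rep.snd (x i)).left := hpe.property _ _ _ (hpe.rep.isPullback' (x i))
    haveI : Etale (pullback.fst (f i) W.hom) := by rw [← hbfst i]; infer_instance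
    rw [← pullbackSymmetry_hom_comp_fst]
    infer_instance
  have hWs : Surjective W.hom := ⟨fun z => by
    obtain ⟨hsurj, -⟩ := (Scheme.ofArrows_mem_precoverage_iff _).1 hf.2
    obtain ⟨i, y, rfl⟩ := hsurj z
    haveI := hbiso i
    haveI : Surjective (hpe.rep.snd (x i)).left := hps.property _ _ _ (hpe.rep.isPullback' (x i))
    haveI : Surjective (pullback.fst (f i) W.hom) := by rw [← hbfst i]; infer_instance
    obtain ⟨w, rfl⟩ := (pullback.fst (f i) W.hom).surjective y
    exact ⟨pullback.snd (f i) W.hom w, by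
      rw [← Scheme.Hom.comp_apply, ← Scheme.Hom.comp_apply, pullback.condition]⟩⟩
  let Wo : Over S := Over.mk (W.hom ≫ T.hom)
  let π : Wo ⟶ T := Over.homMk W.hom rfl
  have lw : ∀ {A : Over S} (t : A ⟶ Wo) (i : ι) (y : A ⟶ mem f i), y ≫ memHom f i = t ≫ π →
      y.left ≫ f i = t.left ≫ W.hom :=
    fun t i y h => congrArg (fun e : _ ⟶ T => e.left) h
  let lv : ∀ {A : Over S} (t : A ⟶ Wo) (i : ι) (y : A ⟶ mem f i) (_ : y ≫ memHom f i = t ≫ π),
      A ⟶ hpe.rep.pullback (x i) := fun {A} t i y h =>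
    Over.homMk (pullback.lift y.left t.left (lw t i y h) ≫ b i) (by
      rw [← Over.w (hpe.rep.snd (x i)), Category.assoc, reassoc_of% (hbfst i), pullback.lift_fst_assoc]
      exact Over.w y)
  have hlvsnd : ∀ {A : Over S} (t : A ⟶ Wo) (i : ι) (y : A ⟶ mem f i) (h : y ≫ memHom f i = t ≫ π),
      lv t i y h ≫ hpe.rep.snd (x i) = y := fun t i y h => Over.OverMorphism.ext (by
    show (pullback.lift y.left t.left (lw t i y h) ≫ b i) ≫ (hpe.rep.snd (x i)).left = y.left
    rw [Category.assoc, hbfst i, pullback.lift_fst])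
  have hind : ∀ {A : Over S} (t : A ⟶ Wo) (i j : ι) (y : A ⟶ mem f i) (y' : A ⟶ mem f j)
      (h : y ≫ memHom f i = t ≫ π) (h' : y' ≫ memHom f j = t ≫ π),
      lv t i y h ≫ hpe.rep.fst' (x i) = lv t j y' h' ≫ hpe.rep.fst' (x j) := by
    intro A t i j y y' h h'
    refine Over.OverMorphism.ext ?_
    let v : Lifts (((toDDFam f).obj W).obj i) y.left :=
      ⟨pullback.lift y.left t.left (lw t i y h), pullback.lift_fst _ _ _⟩
    have hyy : y.left ≫ f i = y'.left ≫ f j := (lw t i y h).trans (lw t j y' h').symm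
    have e1 := a.hom.comm y.left y'.left hyy v (a.hom.push v) rfl
    have e2 : (((toDDFam f).obj W).φ y.left y'.left hyy v).1 =
        pullback.lift y'.left t.left (lw t j y' h') := by
      refine (canMapFam_val f W y.left y'.left hyy v).trans ?_
      apply pullback.hom_ext
      · rw [pullback.lift_fst, pullback.lift_fst]
      · simp only [v, pullback.lift_snd]
    rw [e2] at e1
    show (pullback.lift y.left t.left (lw t i y h) ≫ b i) ≫ (hpe.rep.fst' (x i)).left =
      (pullback.lift y'.left t.left (lw t j y' h') ≫ b j) ≫ (hpe.rep.fst' (x j)).left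
    refine Eq.trans ?_ (congrArg (fun z : A.left ⟶ (hpe.rep.pullback (x j)).left =>
      z ≫ (hpe.rep.fst' (x j)).left) e1)
    exact (gluePt_fst hpe.rep x hc y.left y'.left hyy (a.hom.push v)).symm
  have hR : (famSieve f).pullback π ∈ fpqcJ S Wo :=
    (fpqcJ S).pullback_stable π (famSieve_mem f hf)
  have hex : ∀ {A : Over S} (t : A ⟶ Wo), ((famSieve f).pullback π) t →
      ∃ (i : ι) (y : A ⟶ mem f i), y ≫ memHom f i = t ≫ π := fun t ht => (famSieve_iff f _).1 ht
  obtain ⟨w, hw⟩ := exists_glue_over _ hR (Z := U)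
    (fun A t ht => lv t _ _ (hex t ht).choose_spec.choose_spec ≫ hpe.rep.fst' (x (hex t ht).choose))
    (fun A A' g t ht ht' => by
      obtain ⟨hy⟩ : Nonempty ((g ≫ (hex t ht).choose_spec.choose) ≫ memHom f _ = (g ≫ t) ≫ π) :=
        ⟨by rw [Category.assoc, (hex t ht).choose_spec.choose_spec, Category.assoc]⟩
      refine (hind (g ≫ t) _ _ _ _ (hex (g ≫ t) ht').choose_spec.choose_spec hy).trans ?_
      rw [← Category.assoc g]
      congr 1
      refine Over.OverMorphism.ext ?_
      show pullback.lift _ _ _ ≫ b _ = g.left ≫ pullback.lift _ _ _ ≫ b _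
      rw [← Category.assoc g.left]
      congr 1
      apply pullback.hom_ext <;> simp)
  refine ⟨Wo, π, (yon S).map w ≫ p, hWet, hWs, fun A t i y h => ?_⟩
  have ht : ((famSieve f).pullback π) t := (famSieve_iff f _).2 ⟨i, y, h⟩
  rw [← Category.assoc, ← Functor.map_comp, hw t ht, hind t _ i _ y (hex t ht).choose_spec.choose_spec h, Functor.map_comp, Category.assoc,
    (hpe.rep.isPullback' (x i)).w, ← Category.assoc, ← Functor.map_comp, hlvsnd]
  exact h

/-- A compatible family on the members of an fpqc family glues. -/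
theorem exists_glue (hX : IsAlgSpace X) [U.left.IsSeparated] (hpe : RepWith @Etale p)
    (hps : RepWith @Surjective p) (hf : Presieve.ofArrows Y f ∈ Scheme.fpqcPrecoverage T.left)
    {x : ∀ i, (yon S).obj (mem f i) ⟶ X} (hc : FamCompat x) :
    ∃ g : (yon S).obj T ⟶ X, ∀ i, (yon S).map (memHom f i) ≫ g = x i := by
  obtain ⟨W, π, xW, hπe, hπs, hkey⟩ := exists_chart_glue hpe hps hf hc
  haveI : Sheaf.IsLocallySurjective ((yon S).map π) :=
    isLocallySurjective_of_etale_surjective ((repWith_yon_map_iff _ π).2 hπe) ((repWith_yon_map_iff _ π).2 hπs)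
  obtain ⟨g, hg⟩ := AlgSpDec.exists_desc_of_kernelPair ((IsPullback.of_hasPullback π π).map (yon S)) xW (by
    refine hom_ext_fpqc hX _ ((fpqcJ S).pullback_stable (pullback.fst π π ≫ π) (famSieve_mem f hf)) _ _
      fun A t ht => ?_
    obtain ⟨i, y, hy⟩ := (famSieve_iff f _).1 ht
    rw [← Category.assoc, ← Functor.map_comp, ← Category.assoc, ← Functor.map_comp,
      hkey (t ≫ pullback.fst π π) i y (by rw [hy, Category.assoc]),
      hkey (t ≫ pullback.snd π π) i y (by rw [hy, Category.assoc, pullback.condition])])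
  refine ⟨g, fun i => ?_⟩
  have sq := (IsPullback.of_hasPullback (memHom f i) π).map (Over.forget S)
  haveI : Etale (pullback.fst (memHom f i) π).left := MorphismProperty.of_isPullback sq.flip hπe
  haveI : Surjective (pullback.fst (memHom f i) π).left := MorphismProperty.of_isPullback sq.flip hπs
  refine hom_ext_of_fppf (pullback.fst (memHom f i) π) (fppf_of_etale _) _ _ ?_
  rw [← Category.assoc, ← Functor.map_comp, pullback.condition, Functor.map_comp, Category.assoc, hg,
    hkey (pullback.snd (memHom f i) π) i (pullback.fst (memHom f i) π) pullback.condition]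

/-- An algebraic space is a sheaf for the fpqc topology. -/
theorem isSheaf_fpqc (X : AlgSp.Space S) : Presheaf.IsSheaf (fpqcJ S) X.obj.obj := by
  rw [isSheaf_iff_isSheaf_of_type]
  intro T R hR
  obtain ⟨κ, V, hV, q, p, hpe, hps, -⟩ := S10213.result X
  haveI := hV
  haveI : (Over.mk q : Over S).left.IsSeparated := isSeparated_sigma V
  obtain ⟨ι, Y, f, hf, hfR⟩ := exists_family R hR
  intro ξ hξ
  let e : ∀ A : Over S, ((yon S).obj A ⟶ X.obj) ≃ X.obj.obj.obj (op A) := fun A => (J S).uliftYonedaEquiv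
  have hnat : ∀ {A B : Over S} (φ : B ⟶ A) (s : X.obj.obj.obj (op A)),
      (yon S).map φ ≫ (e A).symm s = (e B).symm (X.obj.obj.map φ.op s) := fun {A B} φ s => by
    apply (e B).injective
    rw [Equiv.apply_symm_apply]
    refine (uliftYonedaEquiv_precomp φ ((e A).symm s)).symm.trans ?_
    rw [Equiv.apply_symm_apply]
  have hc : FamCompat (fun i => (e (mem f i)).symm (ξ (memHom f i) (hfR i))) := fun A i j y₀ y₁ h => by
    rw [hnat, hnat]
    exact congrArg (e A).symm (hξ y₀ y₁ (hfR i) (hfR j) h)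
  obtain ⟨g, hg⟩ := exists_glue X.property hpe hps hf hc
  have hval : ∀ ⦃A : Over S⦄ (t : A ⟶ T) (ht : R t), (yon S).map t ≫ g = (e A).symm (ξ t ht) := by
    intro A t ht
    refine hom_ext_fpqc X.property _ ((fpqcJ S).pullback_stable t (famSieve_mem f hf)) _ _ fun B s hs => ?_
    obtain ⟨i, y, hy⟩ := (famSieve_iff f _).1 hs
    rw [← Category.assoc, ← Functor.map_comp, ← hy, Functor.map_comp, Category.assoc, hg, hnat, hnat]
    exact congrArg (e B).symm (hξ y s (hfR i) ht hy)
  refine ⟨e T g, fun A t ht => ?_, fun z hz => ?_⟩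
  · apply (e A).symm.injective
    rw [← hnat, Equiv.symm_apply_apply, hval t ht]
  · apply (e T).symm.injective
    rw [Equiv.symm_apply_apply]
    refine hom_ext_fpqc X.property R hR _ _ fun A t ht => ?_
    rw [hnat, hz t ht, hval t ht]

end Groth.Agent.FpqcSpace13
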